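import Cfsg.Agent.Lib.Ree.SylowThree
import Cfsg.Agent.Lib.Twisted.FieldAut

/-!
The field automorphisms of `²G₂(q)`.
-/

set_option autoImplicit false
set_option linter.unusedSimpArgs false

namespace Cfsg.Agent.Lib.Ree

open Cfsg.Lie Cfsg.Agent.Lib.Chev
open scoped Matrix

variable {K : Type*} [Field K]

theorem glMap_X (τ : K ≃+* K) (r : Fin 12) (t : K) :
    Twisted.glMapEquiv chevG2 τ (X r t) = X r (τ t) :=
  Units.ext (Twisted.x_map chevG2 τ.toRingHom r.val t)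

theorem glMap_uWord (τ : K ≃+* K) (e : ℕ) (t u v : K) :
    Twisted.glMapEquiv chevG2 τ (uWord e t u v) = uWord e (τ t) (τ u) (τ v) := by
  simp [uWord, glMap_X]

theorem glMap_vWord (τ : K ≃+* K) (e : ℕ) (t u v : K) :
    Twisted.glMapEquiv chevG2 τ (vWord e t u v) = vWord e (τ t) (τ u) (τ v) := by
  simp [vWord, glMap_X]

theorem glMap_twistedG2 (τ : K ≃+* K) (e : ℕ) :
    (twistedG2 K e).map (Twisted.glMapEquiv chevG2 τ).toMonoidHom = twistedG2 K e := by
  have h : ∀ (σ : K ≃+* K) (g : GG K), g ∈ {g : GG K | ∃ w ∈ g2Words K e,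
      (g : Matrix chevG2.Idx chevG2.Idx K) = chevG2.wordMat K w} →
      Twisted.glMapEquiv chevG2 σ g ∈ {g : GG K | ∃ w ∈ g2Words K e,
      (g : Matrix chevG2.Idx chevG2.Idx K) = chevG2.wordMat K w} := by
    rintro σ g ⟨w, ⟨t, u, v, rfl | rfl⟩, hg⟩
    · obtain rfl : g = uWord e t u v := Units.ext (hg.trans (coe_uWord e t u v).symm)
      exact ⟨_, ⟨σ t, σ u, σ v, Or.inl rfl⟩, by rw [glMap_uWord, coe_uWord]⟩
    · obtain rfl : g = vWord e t u v := Units.ext (hg.trans (coe_vWord e t u v).symm)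
      exact ⟨_, ⟨σ t, σ u, σ v, Or.inr rfl⟩, by rw [glMap_vWord, coe_vWord]⟩
  exact Twisted.map_closure_eq _ (h τ) (h τ.symm)

/-- The field automorphism of `²G₂(q)`. -/
noncomputable def fieldTau (τ : K ≃+* K) (m : ℕ) : MulAut ↥(RG K m) :=
  Twisted.restrictAut (Twisted.glMapEquiv chevG2 τ) _ (glMap_twistedG2 τ (3 ^ m))

theorem fieldTau_uG (τ : K ≃+* K) (m : ℕ) (t u v : K) : fieldTau τ m (uG m t u v) = uG m (τ t) (τ u) (τ v) :=
  Subtype.ext (glMap_uWord τ _ t u v)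

theorem fieldTau_mul (τ σ : K ≃+* K) (m : ℕ) : fieldTau (τ * σ) m = fieldTau τ m * fieldTau σ m :=
  MulEquiv.ext fun _ => Subtype.ext (Units.ext rfl)

theorem glMap_diagonal (τ : K ≃+* K) {g : GG K} (hg : g ∈ chevG2.diagonalSubgroup K) :
    Twisted.glMapEquiv chevG2 τ g ∈ chevG2.diagonalSubgroup K := by
  rw [rooted_G2.diagonalSubgroup_eq] at hg ⊢
  obtain ⟨c, rfl⟩ := hg
  refine ⟨fun i => Units.map τ.toRingHom.toMonoidHom (c i), Units.ext ?_⟩
  rw [Twisted.glMapEquiv_coe, coe_torusHom, coe_torusHom]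
  ext i j
  by_cases hij : i = j
  · subst hij
    rcases i with i | i <;> simp [ChevalleyDatum.charDiag, torusFun, map_prod, Units.coe_prod, map_zpow₀]
  · rcases i with i | i <;> rcases j with j | j <;> simp [ChevalleyDatum.charDiag, hij]

namespace Facts

variable [Fintype K] {m : ℕ} (F : Facts K m)
include F

theorem fieldTau_torG (τ : K ≃+* K) (μ : Kˣ) :
    fieldTau τ m (F.torG μ) = F.torG (Units.map τ.toRingHom.toMonoidHom μ) := by
  have hd := glMap_diagonal τ (Subgroup.mem_inf.1 (F.hEl_mem μ)).1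
  obtain ⟨ν, hν⟩ := F.torus_shape (Subgroup.mem_inf.2 ⟨hd, (fieldTau τ m (F.torG μ)).2⟩)
  refine Subtype.ext (hν.trans ?_)
  show _ = hEl (3 ^ m) _
  have h1 := congrArg (Twisted.glMapEquiv chevG2 τ) (F.hEl_conj_uWord μ 1 0 0)
  rw [map_mul, map_mul, map_inv, glMap_uWord, glMap_uWord, hν] at h1
  simp only [map_one, map_zero, mul_one, mul_zero] at h1
  rw [F.hEl_conj_uWord, mul_one, mul_zero, mul_zero] at h1
  exact congrArg _ (Units.ext (F.uWord_injective h1).1)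

end Facts

end Cfsg.Agent.Lib.Ree
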