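import Cfsg.Agent.Lib.Ree.Param
import Cfsg.Agent.Lib.ChevCent.Basic

/-!
Multiplication in the Sylow 3-subgroup of `²G₂(q)` in the coordinates of the defining words.
-/

set_option autoImplicit false
set_option linter.unusedSimpArgs false

namespace Cfsg.Agent.Lib.Ree

open Cfsg.Lie Cfsg.Agent.Lib.Chev

variable {K : Type*} [Field K]

theorem X_eq_xg (r : Fin 12) (t : K) : X r t = ChevCent.xg checked_G2 r.val t := by
  unfold X ChevCent.xg
  rw [dif_pos (show r.val < chevG2.nroots from r.isLt)]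

theorem X_swap_aux (r s : Fin 12) (h1 : s.val ≠ r.val) (h2 : s.val ≠ ng chevG2 r.val) (a b : K) :
    X s a * X r b = ((cTerms G2.cert r.val s.val).map fun c => ChevCent.xg checked_G2 c.1
      ((c.2.1 : K) * b ^ c.2.2.1 * (-a) ^ c.2.2.2)).prod * X r b * X s a := by
  have e := ChevCent.conj_xg (F := K) checked_G2 (r := r.val) (s := s.val) r.isLt s.isLt h1 h2 a b
  rw [mul_inv_eq_iff_eq_mul, ← X_eq_xg, ← X_eq_xg] at e
  exact e

theorem X_merge' (r : Fin 12) (a b : K) (w : GG K) : X r a * (X r b * w) = X r (a + b) * w := by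
  rw [← mul_assoc, X_add]

theorem X_lift {x y z : GG K} (h : x * y = z) (w : GG K) : x * (y * w) = z * w := by
  rw [← mul_assoc, h]

theorem swap_of_nil {r s : Fin 12} (h : s.val ≠ r.val ∧ s.val ≠ ng chevG2 r.val ∧ cTerms G2.cert r.val s.val = [])
    (a b : K) : X s a * X r b = X r b * X s a := by
  rw [X_swap_aux r s h.1 h.2.1 a b, h.2.2]; simp

variable [CharP K 3]

theorem three_zero : (3 : K) = 0 := by exact_mod_cast CharP.cast_eq_zero K 3

omit [CharP K 3] in
theorem xg_lit (n : ℕ) (hn : n < 12) (t : K) : ChevCent.xg checked_G2 n t = X ⟨n, hn⟩ t := (X_eq_xg ⟨n, hn⟩ t).symm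

theorem swap87' (a b : K) : X 8 a * X 7 b = X 9 (-2 * b * -a) * (X 7 b * X 8 a) := by
  rw [X_swap_aux 7 8 (by decide) (by decide +kernel) a b,
    show cTerms G2.cert (7 : Fin 12).val (8 : Fin 12).val = [(9, -2, 1, 1), (10, -3, 2, 1), (11, 3, 1, 2)] by decide +kernel]
  simp [xg_lit 9 (by norm_num), xg_lit 10 (by norm_num), xg_lit 11 (by norm_num), three_zero, X_zero, mul_assoc]

theorem swap76' (a b : K) : X 7 a * X 6 b =
    X 8 (-(b * a)) * (X 9 (b * a ^ 2) * (X 10 (b * a ^ 3) * (X 11 (2 * b ^ 2 * a ^ 3) * (X 6 b * X 7 a)))) := by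
  rw [X_swap_aux 6 7 (by decide) (by decide +kernel) a b,
    show cTerms G2.cert (6 : Fin 12).val (7 : Fin 12).val = [(8, 1, 1, 1), (9, 1, 1, 2), (10, -1, 1, 3), (11, -2, 2, 3)]
      by decide +kernel]
  simp [xg_lit 8 (by norm_num), xg_lit 9 (by norm_num), xg_lit 10 (by norm_num), xg_lit 11 (by norm_num),
    Odd.neg_pow (show Odd 3 by decide), mul_assoc]

theorem swap106' (a b : K) : X 10 a * X 6 b = X 11 (-(b * a)) * (X 6 b * X 10 a) := by
  rw [X_swap_aux 6 10 (by decide) (by decide +kernel) a b,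
    show cTerms G2.cert (6 : Fin 12).val (10 : Fin 12).val = [(11, 1, 1, 1)] by decide +kernel]
  simp [xg_lit 11 (by norm_num), mul_assoc]

theorem swap97' (a b : K) : X 9 a * X 7 b = X 7 b * X 9 a := by
  rw [X_swap_aux 7 9 (by decide) (by decide +kernel) a b,
    show cTerms G2.cert (7 : Fin 12).val (9 : Fin 12).val = [(10, 3, 1, 1)] by decide +kernel]
  simp [xg_lit 10 (by norm_num), three_zero, X_zero]

theorem swap98' (a b : K) : X 9 a * X 8 b = X 8 b * X 9 a := by
  rw [X_swap_aux 8 9 (by decide) (by decide +kernel) a b,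
    show cTerms G2.cert (8 : Fin 12).val (9 : Fin 12).val = [(11, 3, 1, 1)] by decide +kernel]
  simp [xg_lit 11 (by norm_num), three_zero, X_zero]

/-- The sorted product over the positive roots. -/
noncomputable def srtU (p q r s u v : K) : GG K := X 6 p * (X 7 q * (X 8 r * (X 9 s * (X 10 u * X 11 v))))

omit [CharP K 3] in
theorem srtU_congr {p q r s u v p' q' r' s' u' v' : K} (h1 : p = p') (h2 : q = q') (h3 : r = r') (h4 : s = s')
    (h5 : u = u') (h6 : v = v') : srtU p q r s u v = srtU p' q' r' s' u' v' := by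
  subst_vars; rfl


theorem srtU_mul (p q r s u v p' q' r' s' u' v' : K) : srtU p q r s u v * srtU p' q' r' s' u' v' =
    srtU (p + p') (q + q') (2 * p' * q + r + r') (p' * q * q' + 2 * p' * q ^ 2 + 2 * q' * r + s + s')
      (p' * q ^ 3 + u + u') (2 * p' * u + p' ^ 2 * q ^ 3 + v + v') := by
  have h86 := fun a b : K => swap_of_nil (K := K) (r := 6) (s := 8) (by decide +kernel) a b
  have h96 := fun a b : K => swap_of_nil (K := K) (r := 6) (s := 9) (by decide +kernel) a b
  have h116 := fun a b : K => swap_of_nil (K := K) (r := 6) (s := 11) (by decide +kernel) a b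
  have h107 := fun a b : K => swap_of_nil (K := K) (r := 7) (s := 10) (by decide +kernel) a b
  have h117 := fun a b : K => swap_of_nil (K := K) (r := 7) (s := 11) (by decide +kernel) a b
  have h108 := fun a b : K => swap_of_nil (K := K) (r := 8) (s := 10) (by decide +kernel) a b
  have h118 := fun a b : K => swap_of_nil (K := K) (r := 8) (s := 11) (by decide +kernel) a b
  have h109 := fun a b : K => swap_of_nil (K := K) (r := 9) (s := 10) (by decide +kernel) a b
  have h119 := fun a b : K => swap_of_nil (K := K) (r := 9) (s := 11) (by decide +kernel) a b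
  have h1110 := fun a b : K => swap_of_nil (K := K) (r := 10) (s := 11) (by decide +kernel) a b
  have h3 : (3 : K) = 0 := three_zero
  simp only [srtU, mul_assoc, X_merge', X_add, swap76', swap87', swap106', swap97', swap98', h86, h96, h116, h107, h117,
    h108, h118, h109, h119, h1110, X_lift (swap76' _ _), X_lift (swap87' _ _), X_lift (swap106' _ _),
    X_lift (swap97' _ _), X_lift (swap98' _ _), X_lift (h86 _ _), X_lift (h96 _ _), X_lift (h116 _ _),
    X_lift (h107 _ _), X_lift (h117 _ _), X_lift (h108 _ _), X_lift (h118 _ _), X_lift (h109 _ _),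
    X_lift (h119 _ _), X_lift (h1110 _ _)]
  refine srtU_congr ?_ ?_ ?_ ?_ ?_ ?_ <;> first | ring1 | grind

theorem uWord_eq_srt (e : ℕ) (t u v : K) : uWord e t u v = srtU t (t ^ e)
    (t ^ (e + 1) + u ^ e + 2 * t ^ e * t) (t ^ (2 * e + 1) + v ^ e + 2 * (t ^ e) ^ 2 * t)
    ((t ^ e) ^ 3 * t + u) ((t ^ e) ^ 3 * t ^ 2 + v) := by
  have e1 : uWord e t u v = srtU 0 (t ^ e) 0 0 0 0 * srtU t 0 0 0 0 0 *
      srtU 0 0 (t ^ (e + 1) + u ^ e) (t ^ (2 * e + 1) + v ^ e) u v := by
    simp [uWord, srtU, X_zero, mul_assoc]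
  rw [e1, srtU_mul, srtU_mul]
  apply srtU_congr <;> ring

variable {m : ℕ}

/-- The group law on the words. -/
theorem uWord_mul (hq : ∀ x : K, x ^ (3 * 3 ^ m * 3 ^ m) = x) (t u v t' u' v' : K) :
    uWord (3 ^ m) t u v * uWord (3 ^ m) t' u' v' = uWord (3 ^ m) (t + t') (u + u' - t * (t' ^ 3 ^ m) ^ 3)
      (v + v' - t' * u + (t' ^ 3 ^ m) ^ 3 * (t * t' - t ^ 2)) := by
  have h3 : (3 : K) = 0 := three_zero
  have hadd : ∀ x y : K, (x + y) ^ 3 ^ m = x ^ 3 ^ m + y ^ 3 ^ m := fun x y => add_pow_char_pow x y 3 m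
  have hsub : ∀ x y : K, (x - y) ^ 3 ^ m = x ^ 3 ^ m - y ^ 3 ^ m := fun x y => by
    have := hadd (x - y) y
    rw [sub_add_cancel] at this
    linear_combination -this
  have htt : ∀ x : K, ((x ^ 3 ^ m) ^ 3) ^ 3 ^ m = x := fun x => by
    rw [← pow_mul, ← pow_mul]
    convert hq x using 2
    ring
  have hp1 : ∀ x : K, x ^ (3 ^ m + 1) = x ^ 3 ^ m * x := fun x => pow_succ x _
  have hp2 : ∀ x : K, x ^ (2 * 3 ^ m + 1) = (x ^ 3 ^ m) ^ 2 * x := fun x => by
    rw [pow_succ, mul_comm 2, pow_mul]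
  have hp3 : ∀ x : K, (x ^ 2) ^ 3 ^ m = (x ^ 3 ^ m) ^ 2 := fun x => pow_right_comm x 2 _
  rw [uWord_eq_srt, uWord_eq_srt, uWord_eq_srt, srtU_mul]
  simp only [hp1, hp2, hp3, hadd, hsub, mul_pow,
    htt]
  apply srtU_congr <;> first | ring1 | grind

end Cfsg.Agent.Lib.Ree
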