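import Cfsg.Agent.Lib.Ree.Normalizer
import Cfsg.Agent.Lib.Ree.SylowThree
import Cfsg.Agent.Lib.Ree.Aut.Mul

/-!
Normalisers of `U¹` and inverters of `H¹`.
-/

set_option autoImplicit false
set_option linter.unusedSimpArgs false

namespace Cfsg.Agent.Lib.Ree

open Cfsg.Lie Cfsg.Agent.Lib.Chev

variable {K : Type*} [Field K] [Fintype K] {m : ℕ}

namespace Facts

variable (F : Facts K m)
include F

theorem uG_mul_law (t u v t' u' v' : K) : uG m t u v * uG m t' u' v' =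
    uG m (t + t') (u + u' - t * (t' ^ 3 ^ m) ^ 3) (v + v' - t' * u + (t' ^ 3 ^ m) ^ 3 * (t * t' - t ^ 2)) := by
  have := F.charP
  exact Subtype.ext (uWord_mul F.theta_sq t u v t' u' v')

theorem uG_inj {t u v t' u' v' : K} (h : uG m t u v = uG m t' u' v') : t = t' ∧ u = u' ∧ v = v' :=
  F.uWord_injective (congrArg Subtype.val h)

theorem uG_zero : uG m (0 : K) 0 0 = 1 := Subtype.ext F.uWord_zero

theorem uG_mem_RU (t u v : K) : uG m t u v ∈ F.RU := F.mem_RU.2 (F.uWord_mem_U1 t u v)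

theorem exists_uG {g : ↥(RG K m)} (hg : g ∈ F.RU) : ∃ t u v : K, g = uG m t u v := by
  obtain ⟨t, u, v, e⟩ := (F.unip _).1 (F.mem_RU.1 hg)
  exact ⟨t, u, v, Subtype.ext e⟩

theorem torG_mul (μ ν : Kˣ) : F.torG μ * F.torG ν = F.torG (μ * ν) := Subtype.ext (hEl_mul _ μ ν)

theorem torG_one : F.torG 1 = 1 := Subtype.ext (hEl_one _)

theorem torG_inv (μ : Kˣ) : (F.torG μ)⁻¹ = F.torG μ⁻¹ :=
  inv_eq_of_mul_eq_one_right (by rw [F.torG_mul, mul_inv_cancel, F.torG_one])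

theorem torG_pow (μ : Kˣ) (n : ℕ) : F.torG μ ^ n = F.torG (μ ^ n) := by
  induction n with
  | zero => rw [pow_zero, pow_zero, F.torG_one]
  | succ n ih => rw [pow_succ, pow_succ, ih, F.torG_mul]

theorem torG_inj {μ ν : Kˣ} (h : F.torG μ = F.torG ν) : μ = ν := F.hEl_injective (congrArg Subtype.val h)

theorem torG_neg_one : F.torG (-1) = F.invG := rfl

theorem torG_conj_uG (μ : Kˣ) (t u v : K) : F.torG μ * uG m t u v * (F.torG μ)⁻¹ =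
    uG m ((μ : K) * t) ((μ : K) ^ (3 * 3 ^ m + 1) * u) ((μ : K) ^ (3 * 3 ^ m + 2) * v) :=
  Subtype.ext (F.hEl_conj_uWord μ t u v)

theorem uG_torG_inj {t u v t' u' v' : K} {μ ν : Kˣ} (h : uG m t u v * F.torG μ = uG m t' u' v' * F.torG ν) :
    (t = t' ∧ u = u' ∧ v = v') ∧ μ = ν := by
  obtain ⟨a, b⟩ := F.pos_mul_diag_eq (F.uWord_mem_U1 t u v) (F.uWord_mem_U1 t' u' v') (F.hEl_mem μ) (F.hEl_mem ν)
    (congrArg Subtype.val h)
  exact ⟨F.uWord_injective a, F.hEl_injective b⟩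

/-- A generator of the multiplicative group is neither `1` nor `-1`. -/
theorem gen_sq_ne_one (hm : 1 ≤ m) {ν : Kˣ} (hν : ∀ x : Kˣ, x ∈ Subgroup.zpowers ν) : ν ^ 2 ≠ 1 := by
  intro h
  have h1 : Nat.card Kˣ ≤ 2 := by
    rw [← orderOf_eq_card_of_forall_mem_zpowers hν]
    exact orderOf_le_of_pow_eq_one (by norm_num) h
  rw [Nat.card_units, F.card_nat] at h1
  have : (3 : ℕ) ^ 3 ≤ 3 ^ (2 * m + 1) := Nat.pow_le_pow_right (by norm_num) (by omega)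
  omega

/-- An element normalising `U¹` lies in `B¹`. -/
theorem normalizes_split {k : ↥(RG K m)} (h : ∀ x ∈ F.RU, k * x * k⁻¹ ∈ F.RU) :
    ∃ t u v : K, ∃ μ : Kˣ, k = uG m t u v * F.torG μ := by
  rcases F.cover k.2 with ⟨a, ha, b, hb, e⟩ | ⟨a, ha, d, hd, b, hb, e⟩
  · exact F.RB_split (mem_RB.2 (e ▸ mul_mem (F.U1_le_borel ha) (F.H1_le_borel hb)))
  · exfalso
    obtain ⟨u₁, hu₁, hne⟩ := F.exists_uWord_ne_one
    have hdd := rooted_G2.diagonal_le_normalizer_posUnipotent (Subgroup.mem_inf.1 hd).1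
    set x : GG K := b⁻¹ * (d⁻¹ * u₁ * d) * b with hx
    have hy : d⁻¹ * u₁ * d ∈ U1 K (3 ^ m) := Subgroup.mem_inf.2
      ⟨by simpa using (Subgroup.mem_normalizer_iff.1 (inv_mem hdd) _).1 (Subgroup.mem_inf.1 hu₁).1,
        mul_mem (mul_mem (inv_mem (Subgroup.mem_inf.1 hd).2) (Subgroup.mem_inf.1 hu₁).2) (Subgroup.mem_inf.1 hd).2⟩
    have hxU : x ∈ U1 K (3 ^ m) := mul_mem (mul_mem (inv_mem hb) hy) hb
    have hk := h ⟨x, (Subgroup.mem_inf.1 hxU).2⟩ (F.mem_RU.2 hxU)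
    rw [F.mem_RU, Subgroup.coe_mul, Subgroup.coe_mul, InvMemClass.coe_inv, e] at hk
    change a * F.longEl * d * b * (b⁻¹ * (d⁻¹ * u₁ * d) * b) * (a * F.longEl * d * b)⁻¹ ∈ U1 K (3 ^ m) at hk
    rw [show a * F.longEl * d * b * (b⁻¹ * (d⁻¹ * u₁ * d) * b) * (a * F.longEl * d * b)⁻¹ =
        a * (F.longEl * u₁ * F.longEl⁻¹) * a⁻¹ by group,
      Subgroup.mul_mem_cancel_right _ (inv_mem ha), Subgroup.mul_mem_cancel_left _ ha] at hk
    have h1 : F.longEl * u₁ * F.longEl⁻¹ = 1 :=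
      Subgroup.mem_bot.1 (rooted_G2.borel_inf_negUnipotent.le (Subgroup.mem_inf.2
        ⟨F.U1_le_borel hk, F.longEl_conj_pos (Subgroup.mem_inf.1 hu₁).1⟩))
    exact hne (conj_eq_one_iff.1 h1)

/-- An element inverting a generator of the torus lies in the coset of the longest element. -/
theorem inverts_shape {g : ↥(RG K m)} {ν : Kˣ} (hν : ν ^ 2 ≠ 1)
    (h : g * F.torG ν = (F.torG ν)⁻¹ * g) : ∃ μ : Kˣ, g = F.longG * F.torG μ := by
  have hd := (Subgroup.mem_inf.1 (F.hEl_mem ν)).1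
  have hdn := rooted_G2.diagonal_le_normalizer_posUnipotent hd
  have hconj : ∀ a ∈ U1 K (3 ^ m), (hEl (3 ^ m) ν)⁻¹ * a * hEl (3 ^ m) ν ∈ U1 K (3 ^ m) := fun a ha =>
    Subgroup.mem_inf.2 ⟨by simpa using (Subgroup.mem_normalizer_iff.1 (inv_mem hdn) _).1 (Subgroup.mem_inf.1 ha).1,
      mul_mem (mul_mem (inv_mem (Subgroup.mem_inf.1 (F.hEl_mem ν)).2) (Subgroup.mem_inf.1 ha).2)
        (Subgroup.mem_inf.1 (F.hEl_mem ν)).2⟩
  have e' : (g : GG K) * hEl (3 ^ m) ν = (hEl (3 ^ m) ν)⁻¹ * g := congrArg Subtype.val h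
  rcases F.cover g.2 with ⟨a, ha, k, hk, e⟩ | ⟨a, ha, k, hk, b, hb, e⟩
  · exfalso
    rw [e] at e'
    have e2 : a * (k * hEl (3 ^ m) ν) =
        (hEl (3 ^ m) ν)⁻¹ * a * hEl (3 ^ m) ν * ((hEl (3 ^ m) ν)⁻¹ * k) := by
      rw [← mul_assoc a, e']; group
    obtain ⟨-, e3⟩ := F.pos_mul_diag_eq ha (hconj a ha) (mul_mem hk (F.hEl_mem ν))
      (mul_mem (inv_mem (F.hEl_mem ν)) hk) e2
    obtain ⟨μ, rfl⟩ := F.torus_shape hk
    rw [hEl_mul, show (hEl (3 ^ m) ν)⁻¹ = hEl (3 ^ m) ν⁻¹ from congrArg Subtype.val (F.torG_inv ν), hEl_mul,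
      mul_comm ν⁻¹ μ] at e3
    exact hν (by rw [pow_two, ← mul_eq_one_iff_eq_inv.2 (mul_left_cancel (F.hEl_injective e3))])
  · rw [e] at e'
    obtain ⟨μ, rfl⟩ := F.torus_shape hk
    have hc : hEl (3 ^ m) μ * hEl (3 ^ m) ν = hEl (3 ^ m) ν * hEl (3 ^ m) μ := by rw [hEl_mul, hEl_mul, mul_comm]
    have e2 : a * F.longEl * (hEl (3 ^ m) μ * hEl (3 ^ m) ν) * ((hEl (3 ^ m) ν)⁻¹ * b * hEl (3 ^ m) ν) =
        ((hEl (3 ^ m) ν)⁻¹ * a * hEl (3 ^ m) ν) * F.longEl * (hEl (3 ^ m) μ * hEl (3 ^ m) ν) * b := by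
      calc _ = a * F.longEl * hEl (3 ^ m) μ * b * hEl (3 ^ m) ν := by group
        _ = (hEl (3 ^ m) ν)⁻¹ * (a * F.longEl * hEl (3 ^ m) μ * b) := e'
        _ = (hEl (3 ^ m) ν)⁻¹ * a * hEl (3 ^ m) ν * ((hEl (3 ^ m) ν)⁻¹ * F.longEl) * hEl (3 ^ m) μ * b := by group
        _ = _ := by rw [← F.longEl_mul_diag hd, hc]; group
    obtain ⟨ea, -, eb⟩ := F.cell_unique ha (hconj a ha) (mul_mem (F.hEl_mem μ) (F.hEl_mem ν))
      (mul_mem (F.hEl_mem μ) (F.hEl_mem ν)) (hconj b hb) hb e2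
    have one : ∀ {c : GG K}, c ∈ U1 K (3 ^ m) → c = (hEl (3 ^ m) ν)⁻¹ * c * hEl (3 ^ m) ν → c = 1 := by
      intro c hc' ec
      obtain ⟨t, u, v, rfl⟩ := (F.unip _).1 hc'
      by_contra hne
      rw [mul_assoc, eq_inv_mul_iff_mul_eq] at ec
      rcases F.fix_cases hne ec with h1 | ⟨h1, -⟩ <;> exact hν (by rw [h1]; simp)
    refine ⟨μ, Subtype.ext ?_⟩
    rw [e, one ha ea, one hb eb.symm, one_mul, mul_one]
    rfl

end Facts

end Cfsg.Agent.Lib.Ree
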