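import Cfsg.Agent.Lib.Ree.Aut.Field
import Cfsg.Agent.Lib.Ree.Aut.Shape
import Cfsg.Prelude.Def_KGroupFacts

/-!
All automorphisms of `²G₂(q)` are products of inner and field automorphisms.
-/

set_option autoImplicit false
set_option linter.unusedSimpArgs false
set_option maxHeartbeats 800000

namespace Cfsg.Agent.Lib.Ree

open Cfsg.Lie Cfsg.Agent.Lib.Chev
open scoped Pointwise MatrixGroups

variable {K : Type*} [Field K] [Fintype K] {m : ℕ}

namespace Facts

variable (F : Facts K m)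
include F

theorem pow_exp_sq (y : Kˣ) : (y ^ (3 * 3 ^ m - 1)) ^ (3 * 3 ^ m + 1) = y ^ 2 := by
  have h1 : 1 ≤ 3 ^ m := Nat.one_le_pow _ _ (by norm_num)
  have hq : y ^ (3 * 3 ^ m * 3 ^ m) = y := Units.ext (by rw [Units.val_pow_eq_pow_val]; exact F.theta_sq _)
  rw [← pow_mul]
  have e : (3 * 3 ^ m - 1) * (3 * 3 ^ m + 1) + 1 = 3 * 3 ^ m * 3 ^ m * 3 := by
    zify [show 1 ≤ 3 * 3 ^ m by omega]
    ring
  have e2 : y ^ ((3 * 3 ^ m - 1) * (3 * 3 ^ m + 1)) * y = y ^ 2 * y := by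
    rw [← pow_succ, e, pow_mul, hq, ← pow_succ]
  exact mul_right_cancel e2

theorem sq_or_neg_sq {x : K} (hx : x ≠ 0) : ∃ ν : Kˣ, x = (ν : K) ^ (3 * 3 ^ m + 1) ∨ x = -(ν : K) ^ (3 * 3 ^ m + 1) := by
  classical
  have hx' : IsSquare x ∨ IsSquare (-x) := by
    by_cases h : IsSquare x
    · exact Or.inl h
    · refine Or.inr ?_
      have h1 : ¬ IsSquare (-1 : K) := by
        rw [FiniteField.isSquare_neg_one_iff]
        simp [F.card_mod_four]
      have hc : ringChar K ≠ 2 := fun h2 => F.two_ne_zero' (by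
        have h3 := ringChar.Nat.cast_ringChar (R := K)
        rw [h2] at h3; exact_mod_cast h3)
      by_contra hn
      have a1 := (quadraticChar_neg_one_iff_not_isSquare).2 h
      have a2 := (quadraticChar_neg_one_iff_not_isSquare).2 h1
      have a3 := (quadraticChar_neg_one_iff_not_isSquare).2 hn
      rw [← neg_one_mul, map_mul, a1, a2] at a3
      norm_num at a3
  have key : ∀ z : K, z ≠ 0 → IsSquare z → ∃ ν : Kˣ, z = (ν : K) ^ (3 * 3 ^ m + 1) := by
    rintro z hz ⟨y, rfl⟩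
    refine ⟨Units.mk0 y (fun h => hz (by simp [h])) ^ (3 * 3 ^ m - 1), ?_⟩
    rw [← Units.val_pow_eq_pow_val, F.pow_exp_sq, Units.val_pow_eq_pow_val, pow_two]
    rfl
  rcases hx' with h | h
  · obtain ⟨ν, hν⟩ := key x hx h
    exact ⟨ν, Or.inl hν⟩
  · obtain ⟨ν, hν⟩ := key (-x) (neg_ne_zero.2 hx) h
    exact ⟨ν, Or.inr (by rw [← hν, neg_neg])⟩

theorem exists_last {v : K} (hv : v ≠ 0) : ∃ ν : Kˣ, (ν : K) ^ (3 * 3 ^ m + 2) = v := by
  have hinj : Function.Injective fun ν : Kˣ => ν ^ (3 * 3 ^ m + 2) := by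
    intro a b e
    simp only at e
    have : ((a / b : Kˣ) : K) ^ (3 * 3 ^ m + 2) = 1 := by
      rw [← Units.val_pow_eq_pow_val, div_pow, e, div_self', Units.val_one]
    exact div_eq_one.1 (Units.ext (F.eq_one_of_fix_last this))
  obtain ⟨ν, e⟩ := Finite.surjective_of_injective hinj (Units.mk0 v hv)
  exact ⟨ν, congrArg Units.val e⟩

theorem fieldTau_inner {τ : K ≃+* K} {g : ↥(RG K m)} (e : fieldTau τ m = MulAut.conj g) : τ = RingEquiv.refl K := by
  have hap : ∀ x, g * x * g⁻¹ = fieldTau τ m x := fun x => by rw [e]; rfl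
  obtain ⟨t, u, v, μ, rfl⟩ := F.normalizes_split (k := g) fun x hx => by
    obtain ⟨t, u, v, rfl⟩ := F.exists_uG hx
    rw [hap, fieldTau_uG]
    exact F.uG_mem_RU _ _ _
  refine RingEquiv.ext fun x => ?_
  rcases eq_or_ne x 0 with rfl | hx
  · simp
  set ν : Kˣ := Units.mk0 x hx
  set ν' : Kˣ := Units.map τ.toRingHom.toMonoidHom ν
  have h1 := hap (F.torG ν)
  rw [F.fieldTau_torG, mul_inv_eq_iff_eq_mul, mul_assoc (uG m t u v), F.torG_mul] at h1
  have h2 : F.torG ν' * (uG m t u v * F.torG μ) =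
      F.torG ν' * uG m t u v * (F.torG ν')⁻¹ * F.torG (ν' * μ) := by
    rw [← F.torG_mul ν' μ]; group
  rw [h2, F.torG_conj_uG] at h1
  have h3 := (F.uG_torG_inj h1).2
  rw [mul_comm μ] at h3
  exact (congrArg Units.val (mul_right_cancel h3)).symm

/-- An automorphism fixing `U¹` and `H¹` pointwise is trivial. -/
theorem eq_one_of_fix (hm : 1 ≤ m) (α : MulAut ↥(RG K m)) (hU : ∀ t u v, α (uG m t u v) = uG m t u v)
    (hH : ∀ μ, α (F.torG μ) = F.torG μ) : α = 1 := by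
  classical
  obtain ⟨ν, hν⟩ := IsCyclic.exists_generator (α := Kˣ)
  have hν2 := F.gen_sq_ne_one hm hν
  have hdg : ∀ a : Kˣ, ∃ μ, F.slG (SL2.diag a) = F.torG μ := fun a => by
    obtain ⟨μ, hμ⟩ := F.torus_shape (h := F.slHom (SL2.diag a)) (Subgroup.mem_inf.2 ⟨by
      rw [F.slHom_diag, mem_diagonal_iff]; exact ⟨_, _, rfl⟩, F.slHom_mem _⟩)
    exact ⟨μ, Subtype.ext hμ⟩
  have hup : ∀ x : K, F.slG (SL2.upper x) = uG m 0 x 0 := fun x => Subtype.ext (F.slHom_upper x)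
  have hwinv : ∀ a : Kˣ, SL2.weyl * SL2.diag a = SL2.diag a⁻¹ * SL2.weyl := fun a =>
    SL2.ext_entries (by simp [SL2.mul_00, SL2.diag]) (by simp [SL2.mul_01, SL2.diag])
      (by simp [SL2.mul_10, SL2.diag]) (by simp [SL2.mul_11, SL2.diag])
  have hninv : ∀ μ, F.longG * F.torG μ = (F.torG μ)⁻¹ * F.longG := fun μ =>
    Subtype.ext (F.longEl_mul_diag (Subgroup.mem_inf.1 (F.hEl_mem μ)).1)
  have hαn : ∃ μ, α F.longG = F.longG * F.torG μ := by
    refine F.inverts_shape hν2 ?_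
    have := congrArg α (hninv ν)
    rwa [map_mul, map_mul, map_inv, hH] at this
  obtain ⟨μ₀, hμ₀⟩ := hαn
  have hw : ∃ μ, F.wG = F.longG * F.torG μ := by
    obtain ⟨a, ha⟩ : ∃ a : Kˣ, a ^ 4 ≠ 1 := by
      refine ⟨ν, fun h => ?_⟩
      have h1 : Nat.card Kˣ ≤ 4 := by
        rw [← orderOf_eq_card_of_forall_mem_zpowers hν]
        exact orderOf_le_of_pow_eq_one (by norm_num) h
      rw [Nat.card_units, F.card_nat] at h1
      have : (3 : ℕ) ^ 3 ≤ 3 ^ (2 * m + 1) := Nat.pow_le_pow_right (by norm_num) (by omega)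
      omega
    obtain ⟨μ, hμ⟩ := hdg a
    have hinv : F.slG (SL2.diag a⁻¹) = (F.torG μ)⁻¹ := by
      rw [← hμ, ← map_inv]
      congr 1
      exact eq_inv_of_mul_eq_one_left (SL2.ext_entries (by simp [SL2.mul_00, SL2.diag])
        (by simp [SL2.mul_01, SL2.diag]) (by simp [SL2.mul_10, SL2.diag]) (by simp [SL2.mul_11, SL2.diag]))
    refine F.inverts_shape (ν := μ) ?_ ?_
    · intro h
      have h1 : F.slG (SL2.diag a * SL2.diag a) = 1 := by
        rw [map_mul, hμ, F.torG_mul, ← pow_two, h, F.torG_one]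
      rcases F.slG_eq_one_iff.1 h1 with h2 | h2
      · have := congrArg (fun g : SL(2, K) => g 0 0) h2
        simp [SL2.mul_00, SL2.diag] at this
        exact ha (Units.ext (by simp only [Units.val_pow_eq_pow_val, Units.val_one]; linear_combination ((a : K) ^ 2 + 1) * this))
      · have := congrArg (fun g : SL(2, K) => g 0 0) h2
        simp [SL2.mul_00, SL2.diag] at this
        exact ha (Units.ext (by simp only [Units.val_pow_eq_pow_val, Units.val_one]; linear_combination ((a : K) ^ 2 - 1) * this))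
    · rw [← hinv, ← hμ, wG, ← map_mul, hwinv, map_mul]
  obtain ⟨μw, hμw⟩ := hw
  have hαw : α F.wG = F.wG * F.torG μ₀ := by
    rw [hμw, map_mul, hμ₀, hH, mul_assoc, F.torG_mul, mul_assoc, F.torG_mul, mul_comm μ₀]
  have hlow : ∀ c : K, SL2.lower c = SL2.weyl * SL2.upper (-c) * SL2.weyl⁻¹ := fun c => by
    rw [eq_mul_inv_iff_mul_eq]
    exact SL2.ext_entries (by simp [SL2.mul_00]) (by simp [SL2.mul_01]) (by simp [SL2.mul_10]) (by simp [SL2.mul_11])
  set k : K := (μ₀ : K) ^ (3 * 3 ^ m + 1) with hk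
  have hαlow : ∀ c : K, α (F.slG (SL2.lower c)) = F.slG (SL2.lower (k * c)) := by
    intro c
    rw [hlow, hlow]
    simp only [map_mul, map_inv, hup, hU, show F.slG SL2.weyl = F.wG from rfl, hαw]
    rw [show F.wG * F.torG μ₀ * uG m 0 (-c) 0 * (F.wG * F.torG μ₀)⁻¹ =
      F.wG * (F.torG μ₀ * uG m 0 (-c) 0 * (F.torG μ₀)⁻¹) * F.wG⁻¹ by group, F.torG_conj_uG, mul_zero, mul_zero,
      mul_neg]
  have hwdec : (SL2.weyl : SL(2, K)) = SL2.upper 1 * SL2.lower (-1) * SL2.upper 1 :=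
    SL2.ext_entries (by simp [SL2.mul_00, SL2.mul_01]) (by simp [SL2.mul_00, SL2.mul_01])
      (by simp [SL2.mul_10, SL2.mul_11]) (by simp [SL2.mul_10, SL2.mul_11])
  have hαw2 : α F.wG = F.slG (SL2.upper 1 * SL2.lower (-k) * SL2.upper 1) := by
    rw [wG]
    conv_lhs => rw [hwdec]
    rw [map_mul, map_mul, map_mul, map_mul, hup, hU, hαlow, mul_neg_one, map_mul, map_mul, hup]
  have hk1 : k = 1 := by
    obtain ⟨μ, hμ⟩ := hdg ν
    obtain ⟨μ', hμ'⟩ := hdg ν⁻¹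
    have h1 := congrArg F.slG (hwinv ν)
    rw [map_mul, map_mul] at h1
    have h2 := congrArg α h1
    rw [map_mul, map_mul, hμ, hμ', hH, hH, ← hμ, ← hμ', show F.slG SL2.weyl = F.wG from rfl, hαw2, ← map_mul,
      ← map_mul, F.slG_eq_iff] at h2
    by_contra hne
    have hne' : 1 - k ≠ 0 := sub_ne_zero.2 (Ne.symm hne)
    rcases h2 with h2 | h2 <;> have h3 := congrArg (fun g : SL(2, K) => g 0 0) h2 <;>
      simp [Matrix.mul_apply, Fin.sum_univ_two] at h3
    · apply hν2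
      refine Units.ext ?_
      simp only [Units.val_pow_eq_pow_val, Units.val_one]
      field_simp at h3
      have : (1 - k) * ((ν : K) ^ 2 - 1) = 0 := by linear_combination h3
      exact sub_eq_zero.1 ((mul_eq_zero.1 this).resolve_left hne')
    · field_simp at h3
      have : (1 - k) * ((ν : K) ^ 2 + 1) = 0 := by linear_combination h3
      have h4 := (mul_eq_zero.1 this).resolve_left hne'
      have h5 : ¬ IsSquare (-1 : K) := by
        rw [FiniteField.isSquare_neg_one_iff]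
        simp [F.card_mod_four]
      exact h5 ⟨(ν : K), by linear_combination -h4⟩
  have hfix : α F.wG = F.wG := by
    rw [hαw2, hk1, ← hwdec]; rfl
  have hn : α F.longG = F.longG := by
    have h1 := hμw ▸ hfix
    rw [map_mul, hH] at h1
    exact mul_right_cancel h1
  refine MulEquiv.ext fun g => ?_
  rcases F.cover g.2 with ⟨a, ha, d, hd, e⟩ | ⟨a, ha, d, hd, b, hb, e⟩
  · obtain ⟨t, u, v, rfl⟩ := (F.unip _).1 ha
    obtain ⟨μ, rfl⟩ := F.torus_shape hd
    rw [show g = uG m t u v * F.torG μ from Subtype.ext e, map_mul, hU, hH]; rfl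
  · obtain ⟨t, u, v, rfl⟩ := (F.unip _).1 ha
    obtain ⟨t', u', v', rfl⟩ := (F.unip _).1 hb
    obtain ⟨μ, rfl⟩ := F.torus_shape hd
    rw [show g = uG m t u v * F.longG * F.torG μ * uG m t' u' v' from Subtype.ext e, map_mul, map_mul, map_mul,
      hU, hU, hH, hn]; rfl

/-- Every automorphism is conjugate to one preserving `U¹` and `H¹`. -/
theorem exists_conj_preserving (hm : 1 ≤ m) (α : MulAut ↥(RG K m)) : ∃ g : ↥(RG K m),
    (∀ x ∈ F.RU, (MulAut.conj g * α) x ∈ F.RU) ∧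
      ∀ μ, ∃ μ', (MulAut.conj g * α) (F.torG μ) = F.torG μ' := by
  classical
  haveI : Fact (Nat.Prime 3) := ⟨Nat.prime_three⟩
  let Q : Sylow 3 ↥(RG K m) := F.sylowU.mapSurjective (f := α.toMonoidHom) α.surjective
  obtain ⟨g₁, hg₁⟩ := MulAction.exists_smul_eq ↥(RG K m) Q F.sylowU
  have hβU : ∀ x ∈ F.RU, (MulAut.conj g₁ * α) x ∈ F.RU := by
    intro x hx
    show MulAut.conj g₁ (α x) ∈ ((F.sylowU : Sylow 3 ↥(RG K m)) : Subgroup ↥(RG K m))
    rw [← hg₁, Sylow.coe_subgroup_smul]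
    exact Subgroup.smul_mem_pointwise_smul _ (MulAut.conj g₁) _ (Subgroup.mem_map_of_mem α.toMonoidHom hx)
  set β := MulAut.conj g₁ * α with hβ
  have hsurj : ∀ x ∈ F.RU, ∃ y ∈ F.RU, β y = x := by
    intro x hx
    let f : ↥F.RU → ↥F.RU := fun t => ⟨β t, hβU _ t.2⟩
    have hf : Function.Injective f := fun s t e => Subtype.ext (β.injective (congrArg Subtype.val e))
    obtain ⟨t, ht⟩ := Finite.surjective_of_injective hf ⟨x, hx⟩
    exact ⟨t, t.2, congrArg Subtype.val ht⟩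
  obtain ⟨ν, hν⟩ := IsCyclic.exists_generator (α := Kˣ)
  have hν2 := F.gen_sq_ne_one hm hν
  obtain ⟨a, b, c, μ, hμ⟩ := F.normalizes_split (k := β (F.torG ν)) fun x hx => by
    obtain ⟨y, hy, rfl⟩ := hsurj x hx
    rw [← map_inv, ← map_mul, ← map_mul]
    refine hβU _ ?_
    obtain ⟨t, u, v, rfl⟩ := F.exists_uG hy
    rw [F.torG_conj_uG]
    exact F.uG_mem_RU _ _ _
  have hμ2 : μ ^ 2 ≠ 1 := by
    intro h
    have hx : β (F.torG ν ^ 2) ∈ F.RU := by
      rw [map_pow, hμ, pow_two, show uG m a b c * F.torG μ * (uG m a b c * F.torG μ) =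
        uG m a b c * (F.torG μ * uG m a b c * (F.torG μ)⁻¹) * (F.torG μ * F.torG μ) by group, F.torG_mul, ← pow_two,
        h, F.torG_one, mul_one, F.torG_conj_uG]
      exact mul_mem (F.uG_mem_RU _ _ _) (F.uG_mem_RU _ _ _)
    obtain ⟨y, hy, ey⟩ := hsurj _ hx
    rw [β.injective ey, F.torG_pow] at hy
    obtain ⟨t, u, v, e⟩ := F.exists_uG hy
    have e2 : uG m (0 : K) 0 0 * F.torG (ν ^ 2) = uG m t u v * F.torG 1 := by
      rw [F.uG_zero, F.torG_one, one_mul, mul_one, e]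
    exact hν2 (F.uG_torG_inj e2).2
  -- the map `w ↦ w (μ w⁻¹ μ⁻¹)` is a bijection of `U¹`
  let f : ↥F.RU → ↥F.RU := fun w => ⟨(w : ↥(RG K m)) * (F.torG μ * (w : ↥(RG K m))⁻¹ * (F.torG μ)⁻¹), by
    obtain ⟨t, u, v, e⟩ := F.exists_uG (inv_mem w.2)
    refine mul_mem w.2 ?_
    rw [e, F.torG_conj_uG]
    exact F.uG_mem_RU _ _ _⟩
  have hf : Function.Injective f := by
    intro w w' e
    have e' : (w : ↥(RG K m)) * (F.torG μ * (w : ↥(RG K m))⁻¹ * (F.torG μ)⁻¹) =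
        w' * (F.torG μ * (w' : ↥(RG K m))⁻¹ * (F.torG μ)⁻¹) := congrArg Subtype.val e
    obtain ⟨t, u, v, ez⟩ := F.exists_uG (mul_mem (inv_mem w'.2) w.2)
    have e2 : F.torG μ * uG m t u v = uG m t u v * F.torG μ := by
      rw [← ez]
      calc F.torG μ * ((w' : ↥(RG K m))⁻¹ * w) =
          (w' : ↥(RG K m))⁻¹ * (w' * (F.torG μ * (w' : ↥(RG K m))⁻¹ * (F.torG μ)⁻¹)) * F.torG μ * w := by group
        _ = (w' : ↥(RG K m))⁻¹ * (w * (F.torG μ * (w : ↥(RG K m))⁻¹ * (F.torG μ)⁻¹)) * F.torG μ * w := by rw [e']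
        _ = _ := by group
    by_contra hne
    have hne' : uWord (3 ^ m) t u v ≠ 1 := fun h => hne (Subtype.ext (eq_comm.1 (inv_mul_eq_one.1
      (ez.trans (Subtype.ext h)))))
    rcases F.fix_cases hne' (congrArg Subtype.val e2) with h | ⟨h, -⟩ <;> exact hμ2 (by rw [h]; simp)
  obtain ⟨w, hw⟩ := Finite.surjective_of_injective hf ⟨uG m a b c, F.uG_mem_RU a b c⟩
  have hw' : (w : ↥(RG K m)) * F.torG μ * (w : ↥(RG K m))⁻¹ = uG m a b c * F.torG μ := by
    have e := congrArg Subtype.val hw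
    simp only [f] at e
    rw [← e]; group
  refine ⟨(w : ↥(RG K m))⁻¹ * g₁, fun x hx => ?_, fun x => ?_⟩
  · rw [map_mul, mul_assoc, ← hβ]
    show (w : ↥(RG K m))⁻¹ * β x * ((w : ↥(RG K m))⁻¹)⁻¹ ∈ F.RU
    exact mul_mem (mul_mem (inv_mem w.2) (hβU x hx)) (inv_mem (inv_mem w.2))
  · rw [map_mul, mul_assoc, ← hβ]
    have h1 : (MulAut.conj (w : ↥(RG K m))⁻¹ * β) (F.torG ν) = F.torG μ := by
      show (w : ↥(RG K m))⁻¹ * β (F.torG ν) * ((w : ↥(RG K m))⁻¹)⁻¹ = _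
      rw [hμ, ← hw']; group
    obtain ⟨n, hn⟩ := (mem_powers_iff_mem_zpowers).2 (hν x)
    exact ⟨μ ^ n, by rw [← hn, ← F.torG_pow, map_pow, h1, F.torG_pow]⟩

/-- Every automorphism is a field automorphism followed by an inner one. -/
theorem exists_fieldTau (hm : 1 ≤ m) (α : MulAut ↥(RG K m)) :
    ∃ (g : ↥(RG K m)) (τ : K ≃+* K), α = MulAut.conj g * fieldTau τ m := by
  classical
  have hC := F.charP
  have h3 := F.three_eq_zero
  set e : ℕ := 3 * 3 ^ m + 1 with he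
  have heq : e + 1 = 3 * 3 ^ m + 2 := by omega
  have heven : Even e := (Odd.mul (by decide) (odd_theta m)).add_odd odd_one
  obtain ⟨g₀, hU₀, hH₀⟩ := F.exists_conj_preserving hm α
  set β := MulAut.conj g₀ * α with hβ
  choose κ hκ using hH₀
  have hinvG : ∀ γ : MulAut ↥(RG K m), (∀ μ, ∃ μ', γ (F.torG μ) = F.torG μ') → γ F.invG = F.invG := by
    intro γ hγ
    obtain ⟨μ', hμ'⟩ := hγ (-1)
    rw [F.torG_neg_one] at hμ'
    refine F.eq_invG (by rw [hμ']; exact (Subgroup.mem_inf.1 (F.hEl_mem μ')).1) ?_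
      (by rw [← map_mul, F.invG_sq, map_one])
    exact fun h => F.invG_ne_one (γ.injective (by rw [h, map_one]))
  have hmid : ∀ u, ∃ u', β (uG m 0 u 0) = uG m 0 u' 0 := by
    intro u
    obtain ⟨t', u', v', e'⟩ := F.exists_uG (hU₀ _ (F.uG_mem_RU 0 u 0))
    have hc : F.invG * uG m 0 u 0 = uG m 0 u 0 * F.invG :=
      Subtype.ext ((F.invol_commute_uWord_iff 0 u 0).2 ⟨rfl, rfl⟩)
    have hc' := congrArg β hc
    rw [map_mul, map_mul, e', hinvG β fun μ => ⟨_, hκ μ⟩] at hc'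
    obtain ⟨rfl, rfl⟩ := (F.invol_commute_uWord_iff t' u' v').1 (congrArg Subtype.val hc')
    exact ⟨u', e'⟩
  choose f hf using hmid
  have hfadd : ∀ x y, f (x + y) = f x + f y := by
    intro x y
    have h1 : uG m 0 x 0 * uG m 0 y 0 = uG m 0 (x + y) 0 := by rw [F.uG_mul_law]; simp
    have h2 := congrArg β h1
    rw [map_mul, hf, hf, hf, F.uG_mul_law] at h2
    simpa using (F.uG_inj h2).2.1.symm
  have hf0 : f 0 = 0 := by simpa using hfadd 0 0
  have hfneg : ∀ x, f (-x) = -f x := fun x => eq_neg_of_add_eq_zero_left (by rw [← hfadd, neg_add_cancel, hf0])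
  have hfact : ∀ (ν : Kˣ) (x : K), f ((ν : K) ^ e * x) = (κ ν : K) ^ e * f x := by
    intro ν x
    have h1 := congrArg β (F.torG_conj_uG ν 0 x 0)
    rw [map_mul, map_mul, map_inv, hκ, hf, F.torG_conj_uG] at h1
    simp only [mul_zero] at h1
    rw [hf] at h1
    exact (F.uG_inj h1).2.1.symm
  have hc1 : f 1 ≠ 0 := fun h => by
    have h1 := hf 1
    rw [h, F.uG_zero] at h1
    rw [← F.uG_zero] at h1
    have h2 : uG m (0 : K) 1 0 = uG m 0 0 0 := β.injective (by rw [h1, F.uG_zero, map_one])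
    exact one_ne_zero (F.uG_inj h2).2.1
  obtain ⟨ν₀, hν₀⟩ := F.sq_or_neg_sq hc1
  set γ := MulAut.conj (F.torG ν₀⁻¹) * β with hγ
  have hγap : ∀ g, γ g = F.torG ν₀⁻¹ * β g * (F.torG ν₀⁻¹)⁻¹ := fun g => rfl
  obtain ⟨s, hs, hs1⟩ : ∃ s : K, s * s = 1 ∧ (ν₀⁻¹ : Kˣ).val ^ e * f 1 = s := by
    rcases hν₀ with h | h
    · refine ⟨1, by ring, ?_⟩
      rw [h, Units.val_inv_eq_inv_val, inv_pow, inv_mul_cancel₀ (pow_ne_zero _ ν₀.ne_zero)]
    · refine ⟨-1, by ring, ?_⟩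
      rw [h, Units.val_inv_eq_inv_val, inv_pow, mul_neg, inv_mul_cancel₀ (pow_ne_zero _ ν₀.ne_zero)]
  let τ₀ : K → K := fun x => s * ((ν₀⁻¹ : Kˣ).val ^ e * f x)
  have hτadd : ∀ x y, τ₀ (x + y) = τ₀ x + τ₀ y := fun x y => by simp only [τ₀, hfadd]; ring
  have hτ1 : τ₀ 1 = 1 := by simp only [τ₀, hs1]; exact hs
  have hτact : ∀ (ν : Kˣ) (x : K), τ₀ ((ν : K) ^ e * x) = (κ ν : K) ^ e * τ₀ x := fun ν x => by
    simp only [τ₀, hfact]; ring
  have hτneg : ∀ x, τ₀ (-x) = -τ₀ x := fun x => by simp only [τ₀, hfneg]; ring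
  have hτν : ∀ ν : Kˣ, τ₀ ((ν : K) ^ e) = (κ ν : K) ^ e := fun ν => by
    have := hτact ν 1
    rwa [mul_one, hτ1, mul_one] at this
  have hτmul : ∀ x y, τ₀ (x * y) = τ₀ x * τ₀ y := fun x y => by
    rcases eq_or_ne x 0 with rfl | hx
    · simp only [zero_mul, τ₀, hf0, mul_zero]
    · obtain ⟨ν, rfl | rfl⟩ := F.sq_or_neg_sq hx
      · rw [hτact, hτν]
      · rw [neg_mul, hτneg, hτneg, hτact, hτν, neg_mul]
  have hτ0 : τ₀ 0 = 0 := by simp only [τ₀, hf0, mul_zero]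
  have hτinj : Function.Injective τ₀ := by
    intro x y exy
    by_contra hne
    have hd : x - y ≠ 0 := sub_ne_zero.2 hne
    have h1 : τ₀ (x - y) = 0 := by
      have := hτadd (x - y) y
      rw [sub_add_cancel, exy] at this
      exact (add_eq_right.1 this.symm)
    have h2 := hτmul (x - y) (x - y)⁻¹
    rw [mul_inv_cancel₀ hd, hτ1, h1, zero_mul] at h2
    exact one_ne_zero h2
  let τ : K ≃+* K :=
    { Equiv.ofBijective τ₀ (Finite.injective_iff_bijective.1 hτinj) with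
      map_mul' := hτmul
      map_add' := hτadd }
  have hτap : ∀ x, τ x = τ₀ x := fun x => rfl
  set δ := (fieldTau τ m)⁻¹ * γ with hδ
  have hδap : ∀ g, δ g = (fieldTau τ m).symm (γ g) := fun g => rfl
  have hγU : ∀ x ∈ F.RU, γ x ∈ F.RU := fun x hx => by
    obtain ⟨t, u, v, e'⟩ := F.exists_uG (hU₀ x hx)
    rw [hγap, e', F.torG_conj_uG]
    exact F.uG_mem_RU _ _ _
  have hδU : ∀ t u v, ∃ a b c, δ (uG m t u v) = uG m a b c := fun t u v => by
    obtain ⟨a, b, c, e'⟩ := F.exists_uG (hγU _ (F.uG_mem_RU t u v))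
    exact ⟨τ.symm a, τ.symm b, τ.symm c, by
      rw [hδap, MulEquiv.symm_apply_eq, e', fieldTau_uG, RingEquiv.apply_symm_apply, RingEquiv.apply_symm_apply,
        RingEquiv.apply_symm_apply]⟩
  have hδM : ∀ u, δ (uG m 0 u 0) = uG m 0 (s * u) 0 := fun u => by
    rw [hδap, MulEquiv.symm_apply_eq, hγap, hf, F.torG_conj_uG, fieldTau_uG, map_zero, mul_zero, mul_zero, hτap]
    congr 1
    rw [hτmul]
    have hs' : τ₀ s = s := by
      rcases mul_self_eq_one_iff.1 hs with h | h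
      · rw [h, hτ1]
      · rw [h, hτneg, hτ1]
    rw [hs']
    show (ν₀⁻¹ : Kˣ).val ^ (3 * 3 ^ m + 1) * f u = s * (s * ((ν₀⁻¹ : Kˣ).val ^ e * f u))
    rw [← mul_assoc, hs, one_mul]
  -- the torus is fixed
  let ρ : Kˣ → Kˣ := fun ν => Units.map (τ.symm.toRingHom.toMonoidHom) (κ ν)
  have hδH' : ∀ ν, δ (F.torG ν) = F.torG (ρ ν) := fun ν => by
    rw [hδap, MulEquiv.symm_apply_eq, hγap, hκ, F.torG_inv, F.torG_mul, F.torG_mul, F.fieldTau_torG]
    congr 1
    rw [mul_comm ν₀⁻¹, mul_assoc, inv_inv, inv_mul_cancel, mul_one]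
    exact Units.ext (τ.apply_symm_apply _).symm
  have hρe : ∀ ν, (ρ ν : K) ^ e = (ν : K) ^ e := fun ν => by
    show (τ.symm (κ ν : K)) ^ e = _
    rw [← map_pow, ← hτν, ← hτap, RingEquiv.symm_apply_apply]
  have hρmul : ∀ a b, ρ (a * b) = ρ a * ρ b := fun a b => F.torG_inj (by
    rw [← hδH', ← F.torG_mul, map_mul, hδH', hδH', F.torG_mul])
  obtain ⟨ν₁, hν₁⟩ := IsCyclic.exists_generator (α := Kˣ)
  have hρg : ρ ν₁ = ν₁ := by
    have h1 : ((ρ ν₁ / ν₁ : Kˣ) : K) ^ e = 1 := by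
      rw [Units.val_div_eq_div_val, div_pow, hρe, div_self (pow_ne_zero _ ν₁.ne_zero)]
    have h2 := F.sq_eq_one_of_fix_middle h1
    rcases sq_eq_one_iff.1 h2 with h | h
    · exact div_eq_one.1 (Units.ext h)
    exfalso
    have hρm : ρ ν₁ = -1 * ν₁ := by
      rw [← div_eq_iff_eq_mul]; exact Units.ext (h.trans (by simp))
    have hρpow : ∀ n : ℕ, ρ (ν₁ ^ n) = (-1) ^ n * ν₁ ^ n := by
      intro n
      induction n with
      | zero => rw [pow_zero, pow_zero, one_mul]; exact mul_eq_left.1 (by rw [← hρmul, one_mul])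
      | succ n ih => rw [pow_succ, hρmul, ih, hρm, pow_succ, mul_mul_mul_comm]
    have hN : Nat.card Kˣ = orderOf ν₁ := (orderOf_eq_card_of_forall_mem_zpowers hν₁).symm
    obtain ⟨k, hk⟩ : ∃ k, orderOf ν₁ = 2 * (2 * k + 1) := by
      refine ⟨(Fintype.card K - 3) / 4, ?_⟩
      have := F.card_mod_four
      rw [← hN, Nat.card_units, Nat.card_eq_fintype_card]
      omega
    have hhalf : ν₁ ^ (2 * k + 1) = -1 := by
      have h5 : (ν₁ ^ (2 * k + 1)) ^ 2 = 1 := by rw [← pow_mul, mul_comm _ 2, ← hk, pow_orderOf_eq_one]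
      have h6 : ν₁ ^ (2 * k + 1) ≠ 1 := fun h => by
        have := Nat.le_of_dvd (by omega) (orderOf_dvd_of_pow_eq_one h)
        omega
      rcases sq_eq_one_iff.1 (show ((ν₁ ^ (2 * k + 1) : Kˣ) : K) ^ 2 = 1 by
        rw [← Units.val_pow_eq_pow_val, h5, Units.val_one]) with h | h
      · exact absurd (Units.ext h) h6
      · exact Units.ext (h.trans (by simp))
    have h7 := hρpow (2 * k + 1)
    rw [hhalf, (odd_two_mul_add_one k).neg_one_pow, neg_one_mul, neg_neg] at h7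
    have h8 : F.torG (ρ (-1)) = F.torG (-1) := by
      rw [← hδH', F.torG_neg_one]; exact hinvG δ fun μ => ⟨_, hδH' μ⟩
    rw [h7] at h8
    exact F.neg_one_ne_one (congrArg Units.val (F.torG_inj h8)).symm
  have hδH : ∀ ν, δ (F.torG ν) = F.torG ν := fun ν => by
    obtain ⟨n, hn⟩ := (mem_powers_iff_mem_zpowers).2 (hν₁ ν)
    rw [← hn, ← F.torG_pow, map_pow, hδH', hρg]
  -- the three coordinates
  obtain ⟨a, b, c, habc⟩ := hδU 1 0 0
  have hδt : ∀ t, δ (uG m t 0 0) = uG m (t * a) (t ^ e * b) (t ^ (e + 1) * c) := by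
    intro t
    rcases eq_or_ne t 0 with rfl | ht
    · rw [zero_mul, zero_pow (by omega), zero_pow (by omega), zero_mul, zero_mul, F.uG_zero, map_one]
    · have h1 := congrArg δ (F.torG_conj_uG (Units.mk0 t ht) 1 0 0)
      simp only [mul_one, mul_zero, Units.val_mk0] at h1
      rw [map_mul, map_mul, map_inv, hδH, habc, F.torG_conj_uG, Units.val_mk0] at h1
      rw [heq]
      exact h1.symm
  obtain ⟨p, q, r, hpqr⟩ := hδU 0 0 1
  have hp : p = 0 := by
    have h1 : uG m (0 : K) 1 0 * uG m 0 0 1 = uG m 0 0 1 * uG m 0 1 0 := by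
      rw [F.uG_mul_law, F.uG_mul_law]; simp
    have h2 := congrArg δ h1
    rw [map_mul, map_mul, hδM, hpqr, F.uG_mul_law, F.uG_mul_law] at h2
    have h3 := (F.uG_inj h2).2.2
    have h4 : s ≠ 0 := fun h => by rw [h, zero_mul] at hs; exact zero_ne_one hs
    simp at h3
    exact h3.resolve_right h4
  subst hp
  have hδv0 : ∀ v ≠ (0 : K), ∃ ν : Kˣ, δ (uG m 0 0 v) = uG m 0 ((ν : K) ^ e * q) (v * r) := by
    intro v hv
    obtain ⟨ν, hν⟩ := F.exists_last hv
    refine ⟨ν, ?_⟩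
    have h1 := congrArg δ (F.torG_conj_uG ν 0 0 1)
    simp only [mul_one, mul_zero, hν] at h1
    rw [map_mul, map_mul, map_inv, hδH, hpqr, F.torG_conj_uG, mul_zero, hν] at h1
    exact h1.symm
  have hq0 : q = 0 := by
    have h1 : uG m (0 : K) 0 1 * uG m 0 0 (-1) = 1 := by rw [F.uG_mul_law, ← F.uG_zero]; simp
    have h2 := congrArg δ h1
    have hneg : δ (uG m 0 0 (-1)) = uG m 0 q (-r) := by
      have h3 := congrArg δ (F.torG_conj_uG (-1) 0 0 1)
      have hodd : Odd (3 * 3 ^ m + 2) := (Odd.mul (by decide) (odd_theta m)).add_even (by decide)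
      simp only [mul_one, mul_zero, Units.val_neg, Units.val_one, hodd.neg_one_pow] at h3
      rw [map_mul, map_mul, map_inv, hδH, hpqr, F.torG_conj_uG, mul_zero, Units.val_neg, Units.val_one,
        hodd.neg_one_pow, heven.neg_one_pow, one_mul, neg_one_mul] at h3
      exact h3.symm
    rw [map_mul, hpqr, hneg, map_one, ← F.uG_zero, F.uG_mul_law] at h2
    have h4 := (F.uG_inj h2).2.1
    simp at h4
    exact (mul_eq_zero.1 (by linear_combination h4 : (2 : K) * q = 0)).resolve_left F.two_ne_zero'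
  have hδv : ∀ v, δ (uG m 0 0 v) = uG m 0 0 (v * r) := fun v => by
    rcases eq_or_ne v 0 with rfl | hv
    · rw [zero_mul, F.uG_zero, map_one]
    · obtain ⟨ν, h⟩ := hδv0 v hv
      rw [h, hq0, mul_zero]
  have hδ3 : ∀ t u v, δ (uG m t u v) = uG m (t * a) (t ^ e * b + s * u) (t ^ (e + 1) * c + v * r) := by
    intro t u v
    have h1 : uG m t u v = uG m t 0 0 * uG m 0 u 0 * uG m 0 0 v := by
      rw [F.uG_mul_law, F.uG_mul_law]; simp
    rw [h1, map_mul, map_mul, hδt, hδM, hδv, F.uG_mul_law, F.uG_mul_law]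
    simp
  have hmulδ : ∀ t t', δ (uG m t 0 0) * δ (uG m t' 0 0) =
      δ (uG m (t + t') (-(t * (t' ^ 3 ^ m) ^ 3)) ((t' ^ 3 ^ m) ^ 3 * (t * t' - t ^ 2))) := by
    intro t t'
    rw [← map_mul, F.uG_mul_law]; simp
  have hTe : ∀ x : K, x ^ e = (x ^ 3 ^ m) ^ 3 * x := fun x => by rw [he, pow_succ, mul_comm 3, pow_mul]
  have hTadd : ∀ x y : K, ((x + y) ^ 3 ^ m) ^ 3 = (x ^ 3 ^ m) ^ 3 + (y ^ 3 ^ m) ^ 3 := fun x y => by
    rw [F.theta_add, add_pow_char]
  have hν1 : ((ν₁ : K) ^ 3 ^ m) ^ 3 ≠ ν₁ := by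
    intro h
    have h1 : (ν₁ : K) ^ 3 ^ m = ν₁ := by
      have := congrArg (· ^ 3 ^ m) h
      simp only [← pow_mul] at this
      rw [show 3 ^ m * 3 * 3 ^ m = 3 * 3 ^ m * 3 ^ m by ring, F.theta_sq] at this
      exact this.symm
    rw [h1] at h
    apply F.gen_sq_ne_one hm hν₁
    refine Units.ext ?_
    have h2 : (ν₁ : K) * ((ν₁ : K) ^ 2 - 1) = 0 := by linear_combination h
    simpa using sub_eq_zero.1 ((mul_eq_zero.1 h2).resolve_left ν₁.ne_zero)
  have hbs : b = 0 ∧ a ^ e = s := by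
    have key : ∀ t : K, t * b + b + b * ((t ^ 3 ^ m) ^ 3) + b * (t ^ 3 ^ m) ^ 3 * t - s * t =
        b * (t ^ 3 ^ m) ^ 3 * t + b - t * a ^ e := by
      intro t
      have h1 := hmulδ t 1
      rw [hδt, hδt, hδ3, F.uG_mul_law] at h1
      have h2 := (F.uG_inj h1).2.1
      rw [hTe (t + 1), hTadd, hTe t] at h2
      simp only [one_pow, one_mul, mul_one] at h2
      rw [hTe a]
      linear_combination -h2
    have k1 := key 1
    simp only [one_pow, mul_one, one_mul] at k1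
    have kt := key ν₁
    have hb : b * (((ν₁ : K) ^ 3 ^ m) ^ 3 - ν₁) = 0 := by linear_combination kt - (ν₁ : K) * k1 + 3 * (ν₁ : K) * b * 0 + (0 : K) * h3
    have hb0 := (mul_eq_zero.1 hb).resolve_right (sub_ne_zero.2 hν1)
    exact ⟨hb0, by linear_combination k1 - 2 * hb0⟩
  obtain ⟨hb0, has⟩ := hbs
  have hs1' : s = 1 := by
    rcases mul_self_eq_one_iff.1 hs with h | h
    · exact h
    exfalso
    have h5 : ¬ IsSquare (-1 : K) := by
      rw [FiniteField.isSquare_neg_one_iff]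
      simp [F.card_mod_four]
    obtain ⟨j, hj⟩ := heven
    exact h5 ⟨a ^ j, by rw [← h, ← has, hj, pow_add]⟩
  have hr : r = 1 * a ∧ c = c := by
    refine ⟨?_, rfl⟩
    have h1 : uG m (0 : K) 1 0 * uG m 1 0 0 = uG m 1 1 (-1) := by rw [F.uG_mul_law]; simp
    have h2 := congrArg δ h1
    rw [map_mul, hδM, hδt, hδ3, F.uG_mul_law, hb0, hs1'] at h2
    have h4 := (F.uG_inj h2).2.2
    simp at h4
    linear_combination h4
  obtain ⟨hra, -⟩ := hr
  rw [one_mul] at hra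
  have ha : a = 1 ∨ a = -1 := sq_eq_one_iff.1 (F.sq_eq_one_of_fix_middle (has.trans hs1'))
  have hc0 : c = 0 := by
    have key : ∀ t : K, c * ((t + 1) ^ (e + 1) - t ^ (e + 1) - 1) = 0 := by
      intro t
      have h1 := hmulδ t 1
      rw [hδt, hδt, hδ3, F.uG_mul_law, hb0] at h1
      have h2 := (F.uG_inj h1).2.2
      rcases ha with h | h <;>
        · simp [h, hra, (odd_theta m).neg_one_pow] at h2
          linear_combination -h2
    have k1 := key ν₁
    have k2 := key (-ν₁)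
    have hexp : ∀ x : K, x ^ (e + 1) = (x ^ 3 ^ m) ^ 3 * x * x := fun x => by rw [pow_succ, hTe]
    rw [hexp, hexp, hTadd] at k1 k2
    simp only [one_pow, (odd_theta m).neg_pow, Odd.neg_pow (show Odd 3 by decide)] at k1 k2
    have : c * ((ν₁ : K) * (((ν₁ : K) ^ 3 ^ m) ^ 3 - ν₁)) = 0 := by
      linear_combination k1 + k2 + (-(c * (ν₁ : K) * ((ν₁ : K) ^ 3 ^ m) ^ 3) - c * (ν₁ : K) ^ 2) * h3
    exact (mul_eq_zero.1 this).resolve_right (mul_ne_zero ν₁.ne_zero (sub_ne_zero.2 hν1))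
  have hδid : ∃ z : Kˣ, MulAut.conj (F.torG z) * δ = 1 := by
    rcases ha with h | h
    · refine ⟨1, F.eq_one_of_fix hm _ (fun t u v => ?_) fun μ => ?_⟩
      · show F.torG 1 * δ (uG m t u v) * (F.torG 1)⁻¹ = _
        rw [F.torG_one, hδ3, hb0, hs1', hc0, hra, h]; simp
      · show F.torG 1 * δ (F.torG μ) * (F.torG 1)⁻¹ = _
        rw [F.torG_one, hδH]; simp
    · refine ⟨-1, F.eq_one_of_fix hm _ (fun t u v => ?_) fun μ => ?_⟩
      · show F.torG (-1) * δ (uG m t u v) * (F.torG (-1))⁻¹ = _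
        rw [hδ3, F.torG_conj_uG, hb0, hs1', hc0, hra, h, ← he, ← heq, Units.val_neg, Units.val_one]
        simp [pow_succ, heven.neg_one_pow]
      · show F.torG (-1) * δ (F.torG μ) * (F.torG (-1))⁻¹ = _
        rw [hδH, F.torG_mul, F.torG_inv, F.torG_mul, mul_comm (-1 : Kˣ) μ, mul_inv_cancel_right]
  obtain ⟨z, hz⟩ := hδid
  have hδz : δ = MulAut.conj (F.torG z)⁻¹ := by
    rw [map_inv]; exact eq_inv_of_mul_eq_one_right hz
  refine ⟨g₀⁻¹ * (F.torG ν₀⁻¹)⁻¹ * fieldTau τ m ((F.torG z)⁻¹), τ, ?_⟩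
  have h1 : γ = fieldTau τ m * MulAut.conj (F.torG z)⁻¹ := by rw [← hδz, hδ, mul_inv_cancel_left]
  have h2 : α = (MulAut.conj g₀)⁻¹ * (MulAut.conj (F.torG ν₀⁻¹))⁻¹ * γ := by
    rw [hγ, hβ]; group
  rw [h2, h1, map_mul, map_mul, map_inv, map_inv, mul_assoc (_ * _)]
  congr 1
  refine MulEquiv.ext fun x => ?_
  simp [MulAut.conj_apply]

theorem card_ringEquiv : Nat.card (K ≃+* K) = 2 * m + 1 := by
  have := F.charP
  let _ : Algebra (ZMod 3) K := ZMod.algebra K 3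
  haveI : Fact (Nat.Prime 3) := ⟨Nat.prime_three⟩
  let e : (K ≃+* K) ≃ (K ≃ₐ[ZMod 3] K) :=
    { toFun := fun τ => AlgEquiv.ofRingEquiv (f := τ) fun x =>
        congrFun (congrArg DFunLike.coe
          (Subsingleton.elim ((τ : K →+* K).comp (algebraMap (ZMod 3) K)) (algebraMap (ZMod 3) K))) x
      invFun := fun σ => σ.toRingEquiv
      left_inv := fun τ => rfl
      right_inv := fun σ => rfl }
  rw [Nat.card_congr e, IsGalois.card_aut_eq_finrank]
  have hc := Module.natCard_eq_pow_finrank (K := ZMod 3) (V := K)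
  rw [F.card_nat, Nat.card_zmod] at hc
  exact (Nat.pow_right_injective (by norm_num) hc).symm

/-- The outer automorphism group has order `2m + 1`. -/
theorem card_out (hm : 1 ≤ m) : Nat.card (Cfsg.Out ↥(RG K m)) = 2 * m + 1 := by
  rw [← F.card_ringEquiv]
  symm
  refine Nat.card_eq_of_bijective (fun τ => QuotientGroup.mk (fieldTau τ m)) ⟨fun τ τ' e => ?_, fun x => ?_⟩
  · obtain ⟨g, hg⟩ := QuotientGroup.eq.1 e
    have h1 : fieldTau τ' m = fieldTau τ m * fieldTau (τ⁻¹ * τ') m := by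
      rw [← fieldTau_mul, mul_inv_cancel_left]
    rw [h1, inv_mul_cancel_left] at hg
    exact inv_mul_eq_one.1 (F.fieldTau_inner hg.symm)
  · obtain ⟨α, rfl⟩ := QuotientGroup.mk_surjective x
    obtain ⟨g, τ, rfl⟩ := F.exists_fieldTau hm α
    refine ⟨τ, QuotientGroup.eq.2 ⟨(fieldTau τ m).symm g, ?_⟩⟩
    refine MulEquiv.ext fun x => ?_
    show (fieldTau τ m).symm g * x * ((fieldTau τ m).symm g)⁻¹ =
      (fieldTau τ m).symm (g * fieldTau τ m x * g⁻¹)
    rw [map_mul, map_mul, map_inv, MulEquiv.symm_apply_apply]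

end Facts

end Cfsg.Agent.Lib.Ree
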